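/-
Project SO: the model `S = V ⋊ P` of the Sylow `2`-subgroup of `A₁₂` (and of `Sp₆(2)`, `Ω₇(q)`, `q ≡ ±3 mod 8`).
`V = 2^6` has the basis `f 0, …, f 5` (bit masks), `P` is dihedral of order eight and permutes the basis.
-/
import Cfsg.Agent.YA.Defs

set_option autoImplicit false

open Cfsg Subgroup CL.M12c CL.PcL CL.DW CL.Spor SemidirectProduct
open CL.YA (fas_xor all_NG all_TG linF)

namespace CL.SO

def tabP : ℕ := 0x213b3705a97e681fa54c8dec977053b3e21ade54c1fac688
def invP : ℕ := 0xdec688
def actT : ℕ := 0xff7ef3fb6eb2f75e71f34e307d76d3796692755651714610be7ae3ba6aa2b65a61b24a203c72c3386282345241304200ffbdf3f79d71fbadb2f38d307db5d375955179a592718510beb9e3b69961baa9a2b289203cb1c334914138a182308100ff7ef3f75e71fb6eb2f34e30be7ae3b65a61ba6aa2b24a207d76d37556517966927146103c72c3345241386282304200ffbdf3fbadb2f79d71f38d30beb9e3baa9a2b69961b289207db5d379a5927595517185103cb1c338a182349141308100ffef7cdf6d74efae78cf2c707de75c5d65546da6584d2450beeb6c9e6964aeaa688e28603ce34c1c61442ca2480c2040ffdfbcef9eb8df5db4cf1cb07dd79c6d96985d55944d1490bedbacae9aa89e59a48e18a03cd38c2c92881c51840c1080ffdfbcdf5db4ef9eb8cf1cb0bedbac9e59a4ae9aa88e18a07dd79c5d55946d96984d14903cd38c1c51842c92880c1080ffef7cefae78df6d74cf2c70beeb6caeaa689e69648e28607de75c6da6585d65544d24503ce34c2ca2481c61440c2040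

instance validV : FValid 64 Nat.xor (fun a => a) := ⟨by decide, [1, 2, 4, 8, 16, 32], by decide +kernel,
  fun _ hc => fas_xor (k := 6) rfl (by simp only [List.mem_cons, List.not_mem_nil, or_false] at hc; omega)⟩

instance validB : FValid 32 Nat.xor (fun a => a) := ⟨by decide, [1, 2, 4, 8, 16], by decide +kernel,
  fun _ hc => fas_xor (k := 5) rfl (by simp only [List.mem_cons, List.not_mem_nil, or_false] at hc; omega)⟩

instance validP : Valid 8 3 7 tabP invP := ⟨by decide, [1, 2, 4], by decide +kernel, by decide +kernel⟩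

/-- `2^6`: masks on the basis `f 0, …, f 5`; the mask `a` also stands for the even mask `ext a` on seven points. -/
abbrev V : Type := NG 64 Nat.xor (fun a => a)
/-- `2^5`: even masks on `g 0, …, g 5`; the number `b` stands for the mask `b + 32 * parity b`. -/
abbrev VB : Type := NG 32 Nat.xor (fun a => a)
/-- The dihedral group of order eight; the number `i + 2j + 4k` stands for `s12^i s13^j p2^k`, where
`s12 = (0 1)(2 3)`, `s13 = (0 1)(4 5)`, `p2 = (0 2)(1 3)`. -/
abbrev PP : Type := TG 8 3 7 tabP invP

abbrev vv (n : ℕ) : V := NG.of n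
abbrev vb (n : ℕ) : VB := NG.of n
abbrev pq (n : ℕ) : PP := TG.of n

/-! Faster decision procedures for quantifiers. -/

instance (priority := 20000) decAllV (q : V → Prop) [DecidablePred q] : Decidable (∀ a, q a) :=
  decidable_of_iff _ (all_NG q)
instance (priority := 20000) decAllB (q : VB → Prop) [DecidablePred q] : Decidable (∀ a, q a) :=
  decidable_of_iff _ (all_NG q)
instance (priority := 20000) decAllP (q : PP → Prop) [DecidablePred q] : Decidable (∀ a, q a) :=
  decidable_of_iff _ (all_TG q)
instance (priority := 20000) decExV (q : V → Prop) [DecidablePred q] : Decidable (∃ a, q a) :=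
  decidable_of_iff (¬ ∀ a, ¬ q a) not_forall_not
instance (priority := 20000) decExB (q : VB → Prop) [DecidablePred q] : Decidable (∃ a, q a) :=
  decidable_of_iff (¬ ∀ a, ¬ q a) not_forall_not
instance (priority := 20000) decExP (q : PP → Prop) [DecidablePred q] : Decidable (∃ a, q a) :=
  decidable_of_iff (¬ ∀ a, ¬ q a) not_forall_not

theorem card_V : Nat.card V = 64 := NG.card
theorem card_VB : Nat.card VB = 32 := NG.card
theorem card_PP : Nat.card PP = 8 := TG.card

theorem V_sq : ∀ a : V, a * a = 1 := by decide +kernel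
theorem VB_sq : ∀ a : VB, a * a = 1 := by decide +kernel
theorem V_inv (a : V) : a⁻¹ = a := inv_eq_of_mul_eq_one_right (V_sq a)
theorem VB_inv (a : VB) : a⁻¹ = a := inv_eq_of_mul_eq_one_right (VB_sq a)
theorem V_comm (a b : V) : a * b = b * a := by rw [← V_inv (a * b), mul_inv_rev, V_inv, V_inv]
theorem VB_comm (a b : VB) : a * b = b * a := by rw [← VB_inv (a * b), mul_inv_rev, VB_inv, VB_inv]

/-- the basis -/
def ff (i : Fin 6) : V := vv (Nat.shiftLeft 1 i.1)
def fb (i : Fin 5) : VB := vb (Nat.shiftLeft 1 i.1)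

theorem V_ind {q : V → Prop} (h1 : q 1) (h : ∀ a i, q a → q (a * ff i)) (a : V) : q a := by
  have key : ∀ a : V, a = 1 ∨ ∃ i, (a * ff i).1 < a.1 := by decide +kernel
  induction' hn : a.1 using Nat.strong_induction_on with n ih generalizing a
  rcases key a with rfl | ⟨i, hb⟩
  · exact h1
  · have := h _ i (ih _ (hn ▸ hb) _ rfl)
    rwa [mul_assoc, V_sq, mul_one] at this

theorem VB_ind {q : VB → Prop} (h1 : q 1) (h : ∀ a i, q a → q (a * fb i)) (a : VB) : q a := by
  have key : ∀ a : VB, a = 1 ∨ ∃ i, (a * fb i).1 < a.1 := by decide +kernel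
  induction' hn : a.1 using Nat.strong_induction_on with n ih generalizing a
  rcases key a with rfl | ⟨i, hb⟩
  · exact h1
  · have := h _ i (ih _ (hn ▸ hb) _ rfl)
    rwa [mul_assoc, VB_sq, mul_one] at this

/-- a map on `V` is a homomorphism if it is multiplicative with respect to the basis -/
def mkV {H : Type*} [Group H] (F : V → H) (h : ∀ a i, F (a * ff i) = F a * F (ff i)) : V →* H :=
  MonoidHom.mk' F fun a b => by
    induction b using V_ind with
    | h1 => simpa using h 1 0
    | h b i ih => rw [← mul_assoc, h, h, ih, mul_assoc]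

def mkB {H : Type*} [Group H] (F : VB → H) (h : ∀ a i, F (a * fb i) = F a * F (fb i)) : VB →* H :=
  MonoidHom.mk' F fun a b => by
    induction b using VB_ind with
    | h1 => simpa using h 1 0
    | h b i ih => rw [← mul_assoc, h, h, ih, mul_assoc]

theorem V_ext {H : Type*} [Group H] {F F' : V →* H} (h : ∀ i, F (ff i) = F' (ff i)) : F = F' :=
  MonoidHom.ext (V_ind (by rw [map_one, map_one]) fun a i e => by rw [map_mul, map_mul, e, h])

theorem VB_ext {H : Type*} [Group H] {F F' : VB →* H} (h : ∀ i, F (fb i) = F' (fb i)) : F = F' :=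
  MonoidHom.ext (VB_ind (by rw [map_one, map_one]) fun a i e => by rw [map_mul, map_mul, e, h])

theorem autV_ext {σ τ : MulAut V} (h : ∀ i, σ (ff i) = τ (ff i)) : σ = τ :=
  MulEquiv.toMonoidHom_injective (V_ext h)

theorem autB_ext {σ τ : MulAut VB} (h : ∀ i, σ (fb i) = τ (fb i)) : σ = τ :=
  MulEquiv.toMonoidHom_injective (VB_ext h)

def LinOk (t t' : ℕ) : Prop := ∀ a : V, vv (linF t' (vv (linF t a.1)).1) = a ∧ vv (linF t (vv (linF t' a.1)).1) = a ∧
  ∀ i, vv (linF t (a * ff i).1) = vv (linF t a.1) * vv (linF t (ff i).1)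

def LinOkB (t t' : ℕ) : Prop := ∀ a : VB, vb (linF t' (vb (linF t a.1)).1) = a ∧ vb (linF t (vb (linF t' a.1)).1) = a ∧
  ∀ i, vb (linF t (a * fb i).1) = vb (linF t a.1) * vb (linF t (fb i).1)

instance (t t' : ℕ) : Decidable (LinOk t t') := by unfold LinOk; infer_instance
instance (t t' : ℕ) : Decidable (LinOkB t t') := by unfold LinOkB; infer_instance

/-- the automorphism with `f j ↦` byte `j` of `t` (the inverse is given by `t'`) -/
def linA (t t' : ℕ) (h : LinOk t t') : MulAut V where
  toFun a := vv (linF t a.1)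
  invFun a := vv (linF t' a.1)
  left_inv a := (h a).1
  right_inv a := (h a).2.1
  map_mul' := (mkV (fun a => vv (linF t a.1)) fun a => (h a).2.2).map_mul

def linB (t t' : ℕ) (h : LinOkB t t') : MulAut VB where
  toFun a := vb (linF t a.1)
  invFun a := vb (linF t' a.1)
  left_inv a := (h a).1
  right_inv a := (h a).2.1
  map_mul' := (mkB (fun a => vb (linF t a.1)) fun a => (h a).2.2).map_mul

/-! ### The semidirect product -/

def actN (p a : ℕ) : ℕ := Nat.land (Nat.shiftRight actT (Nat.mul 6 (Nat.add (Nat.mul 64 p) a))) 63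

def actV (p : PP) (a : V) : V := vv (actN p.1 a.1)

theorem actV_bas : ∀ (p : PP) (a : V) (i : Fin 6), actV p (a * ff i) = actV p a * actV p (ff i) := by decide +kernel

theorem actV_mul' : ∀ (p q : PP) (i : Fin 6), actV (p * q) (ff i) = actV p (actV q (ff i)) := by decide +kernel
theorem actV_one : ∀ a : V, actV 1 a = a := by decide +kernel

theorem actV_mul (p q : PP) (a : V) : actV (p * q) a = actV p (actV q a) :=
  DFunLike.congr_fun (V_ext (F := mkV _ (actV_bas (p * q))) (F' := (mkV _ (actV_bas p)).comp (mkV _ (actV_bas q)))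
    (actV_mul' p q)) a

/-- the action of `P` on `V` -/
def π : PP →* MulAut V := MonoidHom.mk'
  (fun p => { toFun := actV p
              invFun := actV p⁻¹
              left_inv := fun a => by rw [← actV_mul, inv_mul_cancel, actV_one]
              right_inv := fun a => by rw [← actV_mul, mul_inv_cancel, actV_one]
              map_mul' := (mkV _ (actV_bas p)).map_mul })
  fun p q => MulEquiv.ext (actV_mul p q)

theorem π_inj : Function.Injective π := (injective_iff_map_eq_one π).2 fun p hp =>
  (by decide +kernel : ∀ p : PP, (∀ i, π p (ff i) = ff i) → p = 1) p fun i => by rw [hp]; rfl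

/-- The Sylow `2`-subgroup of `A₁₂`. -/
abbrev S : Type := V ⋊[π] PP

instance (priority := high) decS : DecidableEq S := fun x y =>
  decidable_of_iff (x.left = y.left ∧ x.right = y.right) SemidirectProduct.ext_iff.symm

instance (priority := high) decAllS (q : S → Prop) [DecidablePred q] : Decidable (∀ x, q x) :=
  decidable_of_iff (∀ p a, q ⟨a, p⟩) ⟨fun h x => h x.2 x.1, fun h _ _ => h _⟩

instance (priority := high) decExS (q : S → Prop) [DecidablePred q] : Decidable (∃ x, q x) :=
  decidable_of_iff (∃ p a, q ⟨a, p⟩) ⟨fun ⟨_, _, h⟩ => ⟨_, h⟩, fun ⟨x, h⟩ => ⟨x.2, x.1, h⟩⟩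

instance finS : Finite S := Finite.of_equiv _ SemidirectProduct.equivProd.symm

theorem card_S : Nat.card S = 512 := by
  rw [Nat.card_congr SemidirectProduct.equivProd, Nat.card_prod, card_V, card_PP]

/-- the element `(a, p)` -/
abbrev ss (a p : ℕ) : S := ⟨vv a, pq p⟩

/-- `V →* S` -/
abbrev ι : V →* S := inl
/-- the action of `S` on `V` -/
def ω : S →* MulAut V := π.comp rightHom

theorem ω_range : ω.range = π.range := by
  rw [ω, MonoidHom.range_comp, MonoidHom.range_eq_top.2 rightHom_surjective, ← MonoidHom.range_eq_map]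

theorem card_subtype_S (q : S → Prop) [DecidablePred q] : Nat.card {x // q x} =
    cntBelow (fun n => decide (q (ss (Nat.mod n 64) (Nat.div n 64)))) 512 := by
  rw [cntBelow_eq, ← Fintype.card_coe, ← Nat.card_eq_fintype_card]
  refine Nat.card_congr ⟨fun x => ⟨x.1.left.1 + 64 * x.1.right.1, ?_⟩,
    fun n => ⟨ss (Nat.mod n.1 64) (Nat.div n.1 64), by simpa using (Finset.mem_filter.1 n.2).2⟩, fun x => ?_, fun n => ?_⟩
  · have h1 : x.1.left.1 < 64 := x.1.left.2
    have h2 : x.1.right.1 < 8 := x.1.right.2
    have e1 : Nat.mod (x.1.left.1 + 64 * x.1.right.1) 64 = x.1.left.1 := by change (_ : ℕ) % 64 = _; omega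
    have e2 : Nat.div (x.1.left.1 + 64 * x.1.right.1) 64 = x.1.right.1 := by change (_ : ℕ) / 64 = _; omega
    simp only [Finset.mem_filter, Finset.mem_range, decide_eq_true_eq, e1, e2, ss, vv, pq, NG.of_val, TG.of_val]
    exact ⟨by omega, x.2⟩
  · have h1 : x.1.left.1 < 64 := x.1.left.2
    have e1 : Nat.mod (x.1.left.1 + 64 * x.1.right.1) 64 = x.1.left.1 := by change (_ : ℕ) % 64 = _; omega
    have e2 : Nat.div (x.1.left.1 + 64 * x.1.right.1) 64 = x.1.right.1 := by change (_ : ℕ) / 64 = _; omega
    refine Subtype.ext ?_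
    simp only [e1, e2, ss, vv, pq, NG.of_val, TG.of_val]
  · have h1 := Finset.mem_range.1 (Finset.mem_filter.1 n.2).1
    refine Subtype.ext ?_
    change n.1 % 64 % 64 + 64 * (n.1 / 64 % 8) = n.1
    omega

/-- the number of an element; `mulN`, `invN` are the operations on numbers (for heavy finite checks) -/
def num (x : S) : ℕ := Nat.add x.left.1 (Nat.mul 64 x.right.1)
def mulN (x y : ℕ) : ℕ := Nat.add (Nat.xor (Nat.mod x 64) (Nat.mod (actN (Nat.div x 64) (Nat.mod y 64)) 64))
  (Nat.mul 64 (tm 8 3 7 tabP (Nat.div x 64) (Nat.div y 64)))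
def invN (x : ℕ) : ℕ := Nat.add (Nat.mod (actN (tf 8 3 7 invP (Nat.div x 64)) (Nat.mod x 64)) 64)
  (Nat.mul 64 (tf 8 3 7 invP (Nat.div x 64)))
/-- the element with number `n` -/
def sn (n : ℕ) : S := ss (Nat.mod n 64) (Nat.div n 64)

theorem num_mod (x : S) : Nat.mod (num x) 64 = x.left.1 := by
  have h1 : x.left.1 < 64 := x.left.2
  change (x.left.1 + 64 * x.right.1) % 64 = _; omega
theorem num_div (x : S) : Nat.div (num x) 64 = x.right.1 := by
  have h1 : x.left.1 < 64 := x.left.2
  change (x.left.1 + 64 * x.right.1) / 64 = _; omega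
theorem num_lt (x : S) : num x < 512 := by
  have h1 : x.left.1 < 64 := x.left.2
  have h2 : x.right.1 < 8 := x.right.2
  change x.left.1 + 64 * x.right.1 < _; omega
theorem sn_num (x : S) : sn (num x) = x := by simp only [sn, num_mod, num_div, ss, vv, pq, NG.of_val, TG.of_val]
theorem num_sn {n : ℕ} (h : n < 512) : num (sn n) = n := by
  change n % 64 % 64 + 64 * (n / 64 % 8) = n; omega
theorem num_inj : Function.Injective num := Function.LeftInverse.injective sn_num
theorem num_one : num 1 = 0 := rfl
theorem num_mul (x y : S) : num (x * y) = mulN (num x) (num y) := by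
  rw [mulN, num_mod, num_mod, num_div, num_div]
  exact congrArg (Nat.add · _) (Nat.mod_eq_of_lt (Nat.xor_lt_two_pow (n := 6) x.left.2 (Nat.mod_lt _ (by decide))))
theorem num_inv (x : S) : num x⁻¹ = invN (num x) := by
  rw [invN, num_mod, num_div]
  exact congrArg (Nat.add · _) (congrArg (fun a : V => (actV x.right⁻¹ a).1) (V_inv x.left))

/-! ### Masks -/

/-- parity and weight of a number `< 256` -/
abbrev par (a : ℕ) : ℕ := CL.YA.par a
abbrev pop (a : ℕ) : ℕ := CL.YA.pop a

/-- the even mask on the seven points `0, …, 6` belonging to `a` -/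
def ext (a : V) : ℕ := Nat.add a.1 (Nat.mul 64 (par a.1))
/-- the point `p` lies in the support of the even mask of `a` -/
def bt (a : V) (p : Fin 7) : Bool := (ext a).testBit p.1
/-- the weight (`0, 2, 4, 6`) of the even mask -/
def wt (a : V) : ℕ := pop (ext a)
/-- `z p`: the mask with support the complement of `p`; `z 6 = 63` is central in `S` -/
def zz (p : Fin 7) : V := vv (Nat.xor 63 (Nat.shiftLeft 1 p.1))
/-- the mask with support `{p, q}` -/
def pr (p q : Fin 7) : V := zz p * zz q

/-- the even mask on `g 0, …, g 5` belonging to `b` -/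
def extB (b : VB) : ℕ := Nat.add b.1 (Nat.mul 32 (par b.1))
/-- the weight (`0, 2, 4, 6`) of the mask -/
def wtB (b : VB) : ℕ := pop (extB b)
/-- the mask with support `{i, j}` (trivial if `i = j`) -/
def prB (i j : Fin 6) : VB := vb (Nat.xor (Nat.shiftLeft 1 i.1) (Nat.shiftLeft 1 j.1))

theorem bt_mul : ∀ (a b : V) (p : Fin 7), bt (a * b) p = xor (bt a p) (bt b p) := by decide +kernel
theorem bt_one : ∀ p : Fin 7, bt 1 p = false := by decide +kernel
theorem bt_ext : ∀ a b : V, (∀ p, bt a p = bt b p) → a = b := by decide +kernel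

/-! ### Subgroups -/

/-- the masks with support inside `F` -/
def EF (F : Finset (Fin 7)) : Subgroup V where
  carrier := {a | ∀ p, p ∉ F → bt a p = false}
  one_mem' := fun p _ => bt_one p
  mul_mem' := fun ha hb p hp => by rw [bt_mul, ha p hp, hb p hp]; rfl
  inv_mem' := fun ha p hp => by rw [V_inv]; exact ha p hp

/-- the masks that are constant on `F`; for `F` of odd size this is `⟨z p : p ∉ F⟩` -/
def ZF (F : Finset (Fin 7)) : Subgroup V where
  carrier := {a | ∀ p ∈ F, ∀ q ∈ F, bt a p = bt a q}
  one_mem' := fun p _ q _ => by rw [bt_one, bt_one]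
  mul_mem' := fun ha hb p hp q hq => by rw [bt_mul, bt_mul, ha p hp q hq, hb p hp q hq]
  inv_mem' := fun ha p hp q hq => by rw [V_inv]; exact ha p hp q hq

instance decEF (F : Finset (Fin 7)) (a : V) : Decidable (a ∈ EF F) :=
  inferInstanceAs (Decidable (∀ p, p ∉ F → bt a p = false))
instance decZF (F : Finset (Fin 7)) (a : V) : Decidable (a ∈ ZF F) :=
  inferInstanceAs (Decidable (∀ p ∈ F, ∀ q ∈ F, bt a p = bt a q))

/-- `K = ⟨z₁, z₂, z₃⟩ = ⟨3, 12, 48⟩` -/
abbrev vK : Subgroup V := NG.sub 0x9009000000009009 (by unfold TG.IsSub; decide +kernel)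
/-- masks of even weight on the six basis vectors -/
abbrev vA0 : Subgroup V := NG.sub 0x9669699669969669 (by unfold TG.IsSub; decide +kernel)
/-- `⟨f 4, f 5⟩` -/
abbrev vV : Subgroup V := NG.sub 0x1000100010001 (by unfold TG.IsSub; decide +kernel)
/-- `K` in `VB`: `⟨3, 12, 16⟩` -/
abbrev bK : Subgroup VB := NG.sub 0x90099009 (by unfold TG.IsSub; decide +kernel)
/-- `U = ⟨s12, s13⟩` -/
abbrev pU : Subgroup PP := TG.sub 0xf (by decide +kernel)
/-- `V' = ⟨s12, p2⟩` -/
abbrev pV : Subgroup PP := TG.sub 0x33 (by decide +kernel)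

/-- the fixed points of `Q` -/
def fixV (Q : Subgroup PP) : Subgroup V where
  carrier := {a | ∀ q ∈ Q, π q a = a}
  one_mem' := fun q _ => map_one (π q)
  mul_mem' := fun ha hb q hq => by rw [map_mul, ha q hq, hb q hq]
  inv_mem' := fun ha q hq => by rw [map_inv, ha q hq]

/-- `D ⋊ Q` -/
def sd (D : Subgroup V) (Q : Subgroup PP) (h : ∀ q ∈ Q, ∀ a ∈ D, π q a ∈ D) : Subgroup S where
  carrier := {x | x.left ∈ D ∧ x.right ∈ Q}
  one_mem' := ⟨D.one_mem, Q.one_mem⟩
  mul_mem' := fun ha hb => ⟨D.mul_mem ha.1 (h _ ha.2 _ hb.1), Q.mul_mem ha.2 hb.2⟩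
  inv_mem' := fun ha => ⟨h _ (Q.inv_mem ha.2) _ (D.inv_mem ha.1), Q.inv_mem ha.2⟩

instance decSd (D : Subgroup V) (Q : Subgroup PP) (h : ∀ q ∈ Q, ∀ a ∈ D, π q a ∈ D) [DecidablePred (· ∈ D)]
    [DecidablePred (· ∈ Q)] (x : S) : Decidable (x ∈ sd D Q h) := inferInstanceAs (Decidable (x.left ∈ D ∧ x.right ∈ Q))

/-- `B = K U` -/
abbrev sB : Subgroup S := sd vK pU (by decide +kernel)

/-! ### The group `B` -/

def βN (m : ℕ) : S :=
  ss (Nat.mul (Nat.land m 21) 3) (Nat.add (par (Nat.land m 12)) (Nat.mul 2 (par (Nat.land m 48))))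

/-- `g (2i) = z_i s_i`, `g (2i+1) = s_i`, where `s_i` is the transposition `(2i 2i+1)` and `z_i = f (2i) f (2i+1)`. -/
def β : VB →* S := mkB (fun b => βN (extB b)) (by decide +kernel)

theorem β_inj : Function.Injective β := (injective_iff_map_eq_one β).2 (by decide +kernel)

theorem β_range : β.range = sB := by
  ext x
  refine ⟨?_, fun h => ?_⟩
  · rintro ⟨b, rfl⟩; revert b; decide +kernel
  · exact (by decide +kernel : ∀ p ∈ pU, ∀ a ∈ vK, ∃ b, β b = ⟨a, p⟩) x.2 h.2 x.1 h.1

def swB (a : V) (b : VB) : VB := vb (Nat.xor (extB b) (Nat.mul 3 (Nat.land (Nat.land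
  (Nat.xor (extB b) (Nat.shiftRight (extB b) 1)) (Nat.xor a.1 (Nat.shiftRight a.1 1))) 21)))
def blB (p : PP) (b : VB) : VB := vb (actN (Nat.land p.1 4) (extB b))
def actB (s : S) (b : VB) : VB := swB s.left (blB s.right b)

theorem β_swB : ∀ (a : V) (b : VB), β (swB a b) = ι a * β b * (ι a)⁻¹ := by decide +kernel
theorem β_blB : ∀ (p : PP) (b : VB), β (blB p b) = inr p * β b * (inr p)⁻¹ := by decide +kernel

theorem β_actB (s : S) (b : VB) : β (actB s b) = s * β b * s⁻¹ := by
  rw [actB, β_swB, β_blB]
  conv_rhs => rw [← inl_left_mul_inr_right s]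
  group

/-- the action of `S` on `B`: `f (2i)` and `f (2i+1)` induce the transposition `(g (2i) g (2i+1))`, and `p2` induces
`(g0 g2)(g1 g3)`. -/
def πB : S →* MulAut VB := MonoidHom.mk'
  (fun s => { toFun := actB s
              invFun := actB s⁻¹
              left_inv := fun a => β_inj (by rw [β_actB, β_actB]; group)
              right_inv := fun a => β_inj (by rw [β_actB, β_actB]; group)
              map_mul' := fun a b => β_inj (by rw [map_mul, β_actB, β_actB, β_actB, map_mul]; group) })
  fun s t => MulEquiv.ext fun a => β_inj (by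
    change β (actB (s * t) a) = β (actB s (actB t a))
    rw [β_actB, β_actB, β_actB]; group)

theorem mem_bK : ∀ b : VB, b ∈ bK ↔ (β b).right = 1 := by decide +kernel

/-! ### Automorphisms -/

/-- the permutation `(0 2 4)(1 3 5)` of the basis -/
def kap : MulAut V := linA 0x20120100804 0x80402012010 (by decide +kernel)
/-- `f 4 ↦ f 4 f 5 ↦ f 5`, fixing `f 0, …, f 3` (type `A₁₂`) -/
def rho0 : MulAut V := linA 0x103008040201 0x302008040201 (by decide +kernel)
/-- the permutation `(4 5 6)` of the seven points (type `Ω₇(q)`) -/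
def rho1 : MulAut V := linA 0x103018141211 0x302028242221 (by decide +kernel)
/-- the permutation `(1 2 3)(4 5 6)` of the seven points (type `Sp₆(2)`) -/
def tau0 : MulAut V := linA 0x103012181411 0x302024222821 (by decide +kernel)

/-- the automorphisms commuting with `P` and `kap` -/
def ck : Bool → Bool → MulAut V
  | false, false => 1
  | true, false => linA 0x102004080102 0x102004080102 (by decide +kernel)
  | false, true => linA 0x2f1f3b373e3d 0x2f1f3b373e3d (by decide +kernel)
  | true, true => linA 0x1f2f373b3d3e 0x1f2f373b3d3e (by decide +kernel)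

theorem ck_comm (i j : Bool) (p : PP) : ck i j * π p = π p * ck i j :=
  autV_ext ((by decide +kernel : ∀ (i j : Bool) (p : PP) (k : Fin 6), ck i j (π p (ff k)) = π p (ck i j (ff k))) i j p)
theorem ck_kap (i j : Bool) : ck i j * kap = kap * ck i j :=
  autV_ext ((by decide +kernel : ∀ (i j : Bool) (k : Fin 6), ck i j (kap (ff k)) = kap (ck i j (ff k))) i j)

/-- `(g0 g2 g4)(g1 g3 g5)` -/
def kapB : MulAut VB := linB 0x302120a06 0xc0a090818 (by decide +kernel)
/-- `g1 ↦ g2 ↦ g3 ↦ g1` -/
def gam : MulAut VB := linB 0x1002080401 0x1004020801 (by decide +kernel)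
/-- the automorphism of `B` induced by the twist `θ` -/
def thB : MulAut VB := linB 0x10070b1e1d 0x10070b1e1d (by decide +kernel)

theorem thB_kapB : thB * kapB = kapB * thB := autB_ext (by decide +kernel)
theorem thB_sq : thB * thB = 1 := autB_ext (by decide +kernel)

/-- the crossed homomorphism of the twist: `0, 51, 60, 15, 37, 25, 42, 22` -/
def cth (p : PP) : V := vv (Nat.land (Nat.shiftRight 0x162a19250f3c3300 (Nat.mul 8 p.1)) 63)

theorem cth_mul : ∀ p q : PP, cth (p * q) = cth p * π p (cth q) := by decide +kernel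

/-- the twist: an involutory automorphism of `S` that is trivial on `V` and on `S / V` -/
def th : S ≃* S where
  toFun s := ⟨s.left * cth s.right, s.right⟩
  invFun s := ⟨s.left * cth s.right, s.right⟩
  left_inv s := by ext <;> simp [mul_assoc, V_sq]
  right_inv s := by ext <;> simp [mul_assoc, V_sq]
  map_mul' s t := by
    ext
    · simp only [mul_left, mul_right, cth_mul, map_mul, mul_assoc]
      rw [← mul_assoc (cth s.right), V_comm (cth s.right) (π s.right t.left), mul_assoc]
    · simp

theorem th_ι : ∀ a : V, th (ι a) = ι a := by decide +kernel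
theorem th_β : ∀ b : VB, th (β b) = β (thB b) := by decide +kernel

/-- `A₇` acting on the even masks -/
def X7 : Subgroup (MulAut V) where
  carrier := {σ | ∃ s ∈ alternatingGroup (Fin 7), ∀ i, σ (zz i) = zz (s i)}
  one_mem' := ⟨1, one_mem _, fun _ => rfl⟩
  mul_mem' := fun ⟨s, hs, h⟩ ⟨t, ht, k⟩ => ⟨s * t, mul_mem hs ht, fun i => by rw [MulAut.mul_apply, k, h]; rfl⟩
  inv_mem' := fun {σ} ⟨s, hs, h⟩ => ⟨s⁻¹, inv_mem hs, fun i => σ.injective (by
    rw [h, MulAut.apply_inv_self]; simp)⟩

/-- `S₆` acting on the even masks on `g 0, …, g 5` -/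
def Y6 : Subgroup (MulAut VB) where
  carrier := {σ | ∃ s : Equiv.Perm (Fin 6), ∀ i j, σ (prB i j) = prB (s i) (s j)}
  one_mem' := ⟨1, fun _ _ => rfl⟩
  mul_mem' := fun ⟨s, h⟩ ⟨t, k⟩ => ⟨s * t, fun i j => by rw [MulAut.mul_apply, k, h]; rfl⟩
  inv_mem' := fun {σ} ⟨s, h⟩ => ⟨s⁻¹, fun i j => σ.injective (by
    rw [h, MulAut.apply_inv_self]; simp)⟩

/-! ### The three cases and the types of involutions -/

/-- `alt`: `A₁₂`, `sp`: `Sp₆(2)`, `om`: `Ω₇(q)` -/
inductive Cs : Type
  | alt | sp | om
  deriving DecidableEq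

/-- the element of order three normalising `V'` -/
def rr : Cs → MulAut V
  | .alt => rho0
  | .sp => tau0
  | .om => rho1

def tyT : Cs → ℕ
  | .alt => 0x300000300300000330000030030000033000003003000003200000200200000230000300003000033000030000300003300003000030000320000200002000022221000000002221000000000000000000000000000000002221000000002221200220022002100100000000000000000000000000000000200220022002100120020000000020022002000000002002200200000000200210010000000010013332333233322221333233323332222133323332333222212221222122211110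
  | .sp => 0x400000400400000440000040040000042000002002000002100000100100000140000400004000042000020000200002400004000040000410000100001000012441000000002441000000000000000000000000000000002441000000002441200240044004100100000000000000000000000000000000200240044004100120020000000020024004000000004004400400000000400410010000000010013332344434442441344442414421411134444421424141112441411141111110
  | .om => 0x200000200200000220000020020000022000002002000002100000100100000120000200002000022000020000200002200002000020000210000100001000012221000000002221000000000000000000000000000000002221000000002221200220022002100100000000000000000000000000000000200220022002100120020000000020022002000000002002200200000000200210010000000010013332322232222221322222212221211132222221222121112221211121111110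

/-- The type of an involution (`0` for the other elements).  Case `alt`: half the number of transpositions in `A₁₂`.
Case `om`: half the dimension of the `-1`-eigenspace (`wt a / 2` on `V`).  Case `sp`: on `V` the same, except that the
masks of weight four whose complement is not one of the lines `016, 236, 456, 024, 035, 134, 125` have type `4`.
In all cases `t = 48`, `y = 15`, `z = 63` have the types `1, 2, 3`. -/
def ty (c : Cs) (x : S) : ℕ := Nat.land (Nat.shiftRight (tyT c) (Nat.mul 4 (num x))) 15

theorem ty_β : ∀ (c : Cs) (b : VB), 2 * ty c (β b) = wtB b := by intro c; cases c <;> decide +kernel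
theorem ty_om : ∀ a : V, 2 * ty .om (ι a) = wt a := by decide +kernel
theorem ty_three : ∀ x : S, (ty .sp x = 3 ∨ ty .om x = 3) → ∃ p, x = ι (zz p) := by decide +kernel

/-- `L₃(2)`: the stabiliser of the Fano plane in `A₇` -/
def XL : Subgroup (MulAut V) where
  carrier := {σ | σ ∈ X7 ∧ ∀ a, ty .sp (ι (σ a)) = ty .sp (ι a)}
  one_mem' := ⟨one_mem _, fun _ => rfl⟩
  mul_mem' := fun ⟨h1, h2⟩ ⟨k1, k2⟩ => ⟨mul_mem h1 k1, fun a => by rw [MulAut.mul_apply, h2, k2]⟩
  inv_mem' := fun {σ} ⟨h1, h2⟩ => ⟨inv_mem h1, fun a => by rw [← h2, MulAut.apply_inv_self]⟩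

end CL.SO
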