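/-
Project SO: a complement compatible with the automiser (Gaschütz).
-/
import Cfsg.Agent.SO.Defs
import Cfsg.Agent.Grp.Gaschutz

set_option autoImplicit false

open Cfsg Subgroup CL.Grp CL.M12c CL.PcL CL.DW CL.Spor SemidirectProduct
open CL.YA (Sec WC AG Loc N2 xtr)

namespace CL.SO

universe u

namespace Gas

/-- the automorphism attached to a crossed homomorphism -/
def aut (c : PP → V) (hc : ∀ p q, c (p * q) = c p * π p (c q)) : S ≃* S where
  toFun s := ⟨s.left * c s.right, s.right⟩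
  invFun s := ⟨s.left * c s.right, s.right⟩
  left_inv s := by ext <;> simp [mul_assoc, V_sq]
  right_inv s := by ext <;> simp [mul_assoc, V_sq]
  map_mul' s t := by
    ext
    · simp only [mul_left, mul_right, hc, map_mul, mul_assoc]
      rw [← mul_assoc (c s.right), V_comm (c s.right) (π s.right t.left), mul_assoc]
    · simp

theorem core {Q : Type u} [Group Q] [Finite Q] (ψ : S →* Q) (hi : Function.Injective ψ) (ho : Odd ψ.range.index)
    (hn : (ψ.comp ι).range.Normal) : ∃ H : Subgroup Q, (∀ q : Q, ∃ a, (ψ (ι a))⁻¹ * q ∈ H) ∧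
      (∀ b, ψ (ι b) ∈ H → b = 1) := by
  have : IsMulCommutative (ψ.comp ι).range := ⟨⟨by
    rintro ⟨_, a, rfl⟩ ⟨_, b, rfl⟩
    exact Subtype.ext (by simp only [coe_mul]; rw [← map_mul, ← map_mul, V_comm])⟩⟩
  obtain ⟨H, hH⟩ := gaschutz_exists (ψ.comp ι).range ψ.range (by
      rw [← Nat.card_congr (MonoidHom.ofInjective (f := ψ.comp ι) (hi.comp inl_injective)).toEquiv, card_V]
      exact Nat.Coprime.pow_left 6 ho.coprime_two_left) (ψ.comp inr).range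
    (by
      rw [eq_bot_iff]
      rintro _ ⟨⟨p, rfl⟩, a, e⟩
      have := congrArg SemidirectProduct.right (hi e)
      simp only [right_inl, right_inr] at this
      rw [← this, map_one]
      exact one_mem _)
    (by
      apply le_antisymm (sup_le (by rintro _ ⟨a, rfl⟩; exact ⟨_, rfl⟩) (by rintro _ ⟨a, rfl⟩; exact ⟨_, rfl⟩))
      rintro _ ⟨s, rfl⟩
      rw [← inl_left_mul_inr_right s, map_mul]
      exact mul_mem (mem_sup_left ⟨_, rfl⟩) (mem_sup_right ⟨_, rfl⟩))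
  refine ⟨H, fun q => ?_, fun b hb => ?_⟩
  · obtain ⟨⟨⟨_, a, rfl⟩, h⟩, rfl⟩ := hH.2 q
    exact ⟨a, by simp⟩
  · have := disjoint_def.1 hH.disjoint (⟨b, rfl⟩ : ψ (ι b) ∈ (ψ.comp ι).range) hb
    exact inl_injective (hi (this.trans (by simp)))

end Gas

theorem gasThm : GasThm.{u} := by
  intro G _ _ φ D h
  obtain ⟨O, hO, hN, -, -⟩ := h.cen
  set N := normalizer ((φ.comp ι).range : Set G) with hNdef
  have hφ : ∀ s, φ s ∈ N := fun s => mem_normalizer_fintype (by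
    rintro _ ⟨a, rfl⟩
    exact ⟨ω s a, by rw [MonoidHom.comp_apply, secA.act, map_mul, map_mul, map_inv]; rfl⟩)
  have : (O.subgroupOf N).Normal := ⟨fun x hx g => by
    rw [mem_subgroupOf] at hx ⊢
    exact ((mem_normalizer_iff.1 (hN g.2)) _).1 hx⟩
  let f := QuotientGroup.mk' (O.subgroupOf N)
  let ψ : S →* N ⧸ O.subgroupOf N := f.comp (φ.codRestrict N hφ)
  have hi : Function.Injective ψ := by
    rw [injective_iff_map_eq_one]
    intro s hs
    have h1 : φ s ∈ O := mem_subgroupOf.1 ((QuotientGroup.eq_one_iff (N := O.subgroupOf N) _).1 hs)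
    obtain ⟨k, hk⟩ := D.pg ⊤ ⟨φ s, mem_map_of_mem φ trivial⟩
    have h2 : φ s ^ 2 ^ k = 1 := congrArg Subtype.val hk
    have h3 : φ s ^ Nat.card O = 1 := congrArg Subtype.val (pow_card_eq_one' (x := (⟨φ s, h1⟩ : O)))
    have h4 : orderOf (φ s) ∣ 1 :=
      (Nat.Coprime.pow_left k hO.coprime_two_left) ▸ Nat.dvd_gcd (orderOf_dvd_of_pow_eq_one h2)
        (orderOf_dvd_of_pow_eq_one h3)
    exact D.inj (by rw [map_one]; exact orderOf_eq_one_iff.1 (Nat.dvd_one.1 h4))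
  have ho : Odd ψ.range.index := by
    have h1 := D.syl.not_dvd
    rw [relIndex_top_right] at h1
    refine Nat.not_even_iff_odd.1 fun h2 => h1 (h2.two_dvd.trans ?_)
    have h3 : ψ.range = (φ.range.subgroupOf N).map f := by
      ext x
      constructor
      · rintro ⟨s, rfl⟩
        exact ⟨⟨φ s, hφ s⟩, ⟨s, rfl⟩, rfl⟩
      · rintro ⟨⟨_, _⟩, ⟨s, rfl⟩, rfl⟩
        exact ⟨s, rfl⟩
    rw [h3]
    exact (index_map_dvd _ (QuotientGroup.mk'_surjective _)).trans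
      (relIndex_dvd_index_of_le (by rintro _ ⟨s, rfl⟩; exact hφ s))
  have hc : ∀ {g : G} (hg : g ∈ N) {s t : S}, Cj φ g s t → f ⟨g, hg⟩ * ψ s * (f ⟨g, hg⟩)⁻¹ = ψ t := fun hg s t e => by
    simp only [ψ, MonoidHom.comp_apply, ← map_inv, ← map_mul]
    exact congrArg f (Subtype.ext e)
  obtain ⟨H, h1, h2⟩ := Gas.core ψ hi ho ⟨by
    rintro _ ⟨a, rfl⟩ q
    obtain ⟨⟨g, hg⟩, rfl⟩ := QuotientGroup.mk'_surjective _ q
    obtain ⟨b, hb⟩ := ((mem_normalizer_iff.1 hg) _).1 ⟨a, rfl⟩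
    exact ⟨b, (hc hg hb.symm).symm⟩⟩
  choose c hcH using fun p : PP => h1 (ψ (inr p))
  replace hcH : ∀ p, ψ ⟨c p, p⟩ ∈ H := fun p => by
    have := hcH p
    rwa [← map_inv, ← map_inv, ← map_mul, V_inv, ← mk_eq_inl_mul_inr] at this
  have uq : ∀ p a, ψ ⟨a, p⟩ ∈ H → a = c p := fun p a e => by
    have := H.mul_mem e (H.inv_mem (hcH p))
    rw [← map_inv, ← map_mul, show (⟨a, p⟩ : S) * (⟨c p, p⟩ : S)⁻¹ = ι (a * (c p)⁻¹) by ext <;> simp] at this
    exact mul_inv_eq_one.1 (h2 _ this)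
  have cr : ∀ p q, c (p * q) = c p * π p (c q) := fun p q =>
    (uq _ _ (by have := H.mul_mem (hcH p) (hcH q); rwa [← map_mul] at this)).symm
  have c1 : c 1 = 1 := (uq 1 1 (by rw [show (⟨1, 1⟩ : S) = 1 from rfl, map_one]; exact one_mem H)).symm
  have he : ∀ a, Gas.aut c cr (ι a) = ι a := fun a => by ext <;> simp [Gas.aut, c1]
  refine ⟨Gas.aut c cr, he, fun σ ⟨g0, hg0⟩ => ?_⟩
  obtain ⟨g, k1, k2⟩ := h.lift σ ⟨g0, fun a => by
    have := hg0 a
    simp only [Cj, MonoidHom.comp_apply, MulEquiv.coe_toMonoidHom, he] at this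
    exact this⟩
  have hg : g ∈ N := mem_normalizer_fintype (by
    rintro _ ⟨a, rfl⟩
    exact ⟨σ a, Eq.symm (k1 a)⟩)
  obtain ⟨a0, ha0⟩ := h1 (f ⟨g, hg⟩)
  have hg' : φ (ι a0)⁻¹ * g ∈ N := mul_mem (hφ _) hg
  have ha1 : f ⟨_, hg'⟩ ∈ H := by
    rw [← map_inv] at ha0
    exact ha0
  refine ⟨φ (ι a0)⁻¹ * g, fun a p q e => ?_⟩
  obtain ⟨b, hb⟩ := k2 ⟨c p, p⟩ ⟨c q, q⟩ e
  have m1 := hb.comp (Cj.self (φ := φ) (ι a0)⁻¹ _)
  have m2 := (k1 a).comp (Cj.self (φ := φ) (ι a0)⁻¹ _)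
  obtain ⟨b', hb'⟩ : ∃ b', (ι a0)⁻¹ * (ι b * ⟨c q, q⟩) * (ι a0)⁻¹⁻¹ = (⟨b', q⟩ : S) := ⟨_, by ext; rfl; simp⟩
  rw [hb'] at m1
  obtain rfl := uq q b' (hc hg' m1 ▸ H.mul_mem (H.mul_mem ha1 (hcH p)) (H.inv_mem ha1))
  have m3 := (m2.mul m1).of_eq (a' := Gas.aut c cr ⟨a, p⟩) (b' := Gas.aut c cr ⟨σ a, q⟩) (by ext <;> simp [Gas.aut])
    (by rw [inv_inv, ← map_inv, ← map_mul, ← map_mul, V_comm _ (σ a), inv_mul_cancel_right]; ext <;> simp [Gas.aut])
  exact m3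

end CL.SO
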