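/-
Project SO: the strong form of Goldschmidt's theorem in the centraliser of `y`.
-/
import Cfsg.Agent.SO.Holt

set_option autoImplicit false

open Cfsg Subgroup CL.Grp CL.M12c CL.PcL CL.DW CL.Spor SemidirectProduct
open CL.YA (Sec WC AG Loc N2 xtr)
open scoped commutatorElement

namespace CL.SO

universe u

open HoltAux CL.Loc CL.Even in
theorem hyS {G : Type u} [Group G] [Finite G] {φ : S →* G} {c : Cs} (hc : c ≠ .alt) (F : Fin' φ c) :
    (∀ h ∈ C1 (iv φ yy), ∃ o ∈ Oc (iv φ yy), o⁻¹ * h ∈ normalizer (sv φ vV : Set G)) ∨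
      (c = .om ∧ ∃ L, HY2 φ L) := by
  have : Fact (Nat.Prime 2) := ⟨Nat.prime_two⟩
  have D := F.sy
  have hj : Function.Injective (φ.comp ι) := D.inj.comp inl_injective
  have hsc := sc hc F
  have loc := CL.Gold.thmGAll _ _ (fun X _ _ _ => CL.Gold.gs X) hsc
  have hS : φ.range ≤ C1 (iv φ yy) := le_C cen_y
  have hT := D.syl.of_le hS le_top
  have hHO := le_normalizer_pPrimeCoreOf 2 (C1 (iv φ yy))
  by_cases hex : ∃ L, CL.Gold.Cmp (sv φ vV) (C1 (iv φ yy)) L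
  swap
  · refine .inl fun h hh => ?_
    have h1 : Even.ncl (C1 (iv φ yy)) (sv φ vV) ≤ sv φ vV ⊔ Oc (iv φ yy) :=
      loc.gen.trans (sup_le le_rfl (sSup_le fun L hL => absurd ⟨L, hL⟩ hex))
    obtain ⟨n, hn, h2⟩ := exists_conj_into
      (CL.Grp.isSylowIn_sup_of_coprime hsc.isP (pPrimeCoreOf_coprime 2 _) (hsc.le.trans hHO))
      (isPGroup_cj hsc.isP h) ((cj_le_ncl _ hh).trans h1)
    have h3 : n * h ∈ normalizer (sv φ vV : Set G) := mem_norm_fin fun x hx => by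
      simpa [mul_assoc] using h2 _ (conj_mem_cj h hx)
    obtain ⟨v, hv, o, ho, rfl⟩ := (mem_sup_nr (hsc.le.trans hHO)).1 hn
    exact ⟨o⁻¹, inv_mem ho, by simpa [mul_assoc] using mul_mem (inv_mem (le_normalizer hv)) h3⟩
  obtain ⟨L, hL⟩ := hex
  have c4 : Nat.card (sv φ vV) = 4 := by
    rw [card_map_of_injective hj]
    exact (Nat.card_eq_fintype_card (α := {a : V // a ∈ vV})).trans (by decide +kernel)
  have hb : sv φ vV ⊓ cpc 2 L = ⊥ := by
    have := loc.four_le L hL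
    exact card_le_one_iff_eq_bot _ |>.1 (by omega)
  have one : ∀ x ∈ sv φ vV, x ∈ cpc 2 L → x = 1 := fun x h1 h2 => mem_bot.1 (hb ▸ mem_inf.2 ⟨h1, h2⟩)
  have hVL : sv φ vV ≤ L := (loc.inner L hL).trans (sup_le inf_le_right (hb.le.trans bot_le))
  have mt : iv φ tt ∈ sv φ vV := ⟨tt, (by decide +kernel : tt ∈ vV), rfl⟩
  have ne1 : ∀ a : V, a ≠ 1 → iv φ a ≠ 1 := fun a ha e => ha (hj (e.trans (map_one _).symm))
  have hHL : C1 (iv φ yy) ≤ normalizer (L : Set G) := fun h hh => by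
    have k := hL.1.conj_of_mem_norm (le_normalizer hh)
    by_contra hn
    obtain ⟨n, hn', h2⟩ := exists_conj_inv (hT.inf_of_subnIn k.subnIn) (a := h * iv φ tt * h⁻¹)
      (by rw [conj_mul, iv_sq, mul_one, mul_inv_cancel]) (conj_mem_cj h (hVL mt))
    have e : n * h * iv φ tt * (n * h)⁻¹ = n * (h * iv φ tt * h⁻¹) * n⁻¹ := by group
    rw [← e] at h2
    have := one _ (key hc F (mul_mem (k.le hn') hh) mt h2.1)
      (k.le_cpc_of_ne hL.1 (fun e => hn (cj_eq_iff_mem.1 e)) h2.2)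
    exact ne1 tt (by decide +kernel) (conj_eq_one_iff.1 this)
  have hT1 := hT.inf_of_subnIn hL.1.subnIn
  have hV1 : sv φ vV ≤ φ.range ⊓ L := le_inf (sv_le _) hVL
  have hTV : φ.range ⊓ L = sv φ vV := by
    obtain ⟨-, -, r3, -⟩ := loc.rank2 L hL (by rw [hb, c4, card_bot]) _ hT1 (hV1.trans le_normalizer)
    refine le_antisymm ?_ hV1
    rintro _ ⟨⟨s, rfl⟩, hs⟩
    have h1 : s.right = 1 := (by decide +kernel : ∀ p : PP, (∀ i, ff i * π p (ff i) ∈ vV) → p = 1) _ fun i => by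
      have e : iv φ (ff i * π s.right (ff i)) = iv φ (ff i) * φ s * (iv φ (ff i))⁻¹ * (φ s)⁻¹ := by
        rw [← map_inv, ← map_inv, ← map_inv, V_inv, ← map_mul, ← map_mul, ← map_mul, mul_assoc, mul_assoc,
          ← mul_assoc s, ← secA.act, ← map_mul, ω_apply]
      obtain ⟨w, hw, e'⟩ := r3 _ ⟨⟨_, rfl⟩, e ▸ mul_mem (Even.conj_mem (hHL (hS ⟨_, rfl⟩)) hs) (inv_mem hs)⟩ (iv_sq _)
      exact hj e' ▸ hw
    have h2 : s = ι s.left := by ext <;> simp [h1]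
    exact r3 _ ⟨⟨s, rfl⟩, hs⟩ (by rw [h2]; exact iv_sq _)
  rw [hTV] at hT1
  have hA : (φ.comp ι).range ≤ φ.range := by rintro _ ⟨a, rfl⟩; exact ⟨_, rfl⟩
  have hAV : (φ.comp ι).range ≤ centralizer (sv φ vV : Set G) := by
    rintro _ ⟨a, rfl⟩ _ ⟨b, -, rfl⟩
    exact iv_comm b a
  have hU : ∀ a, ∃ w ∈ vV, iv φ (w * a) ∈ cpc 2 L := fun a => by
    have k : ∀ b ∈ sv φ vV, iv φ a * b * (iv φ a)⁻¹ * b⁻¹ = 1 := fun b hb => by
      rw [← show b * iv φ a = iv φ a * b from hAV ⟨a, rfl⟩ b hb]; simp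
    obtain ⟨_, ⟨w, hw, rfl⟩, y, hy, e⟩ := (mem_sup_nr (hVL.trans (le_normalizer.trans (norm_le_norm_cpc L)))).1
      (loc.aut L hL _ hT1 le_normalizer (iv φ a) (hHL (hS ⟨_, rfl⟩)) 1 (by rw [pow_one, pow_two, iv_sq])
        (centralizer_le_normalizer _ (hAV ⟨a, rfl⟩)) (fun b hb => k b hb.1 ▸ one_mem _) fun b hb => k b hb ▸ one_mem _)
    refine ⟨w, hw, ?_⟩
    have e' : iv φ w * y = iv φ a := e
    rwa [iv, map_mul, map_mul, ← iv, ← iv, ← e', ← mul_assoc, iv_sq, one_mul]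
  obtain ⟨D0, hD0, -, htr⟩ := loc.trans L hL
  have m32 : iv φ (vv 32) ∈ sv φ vV := ⟨_, (by decide +kernel : vv 32 ∈ vV), rfl⟩
  obtain ⟨d, hd, hd'⟩ := htr _ mt (fun k => ne1 _ (by decide +kernel) (one _ mt k)) _ m32
    (fun k => ne1 _ (by decide +kernel) (one _ m32 k))
  obtain ⟨dL, dN⟩ := hD0 hd
  have d1 : d * iv φ tt * d⁻¹ = iv φ (vv 32) := mul_inv_eq_one.1 (one _ (mul_mem (Even.conj_mem dN mt) (inv_mem m32)) hd')
  have hW := pPrimeCoreOf_coprime 2 L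
  have hAp : IsPGroup 2 (φ.comp ι).range := D.syl.isPGroup.to_le hA
  have hAW := (hA.trans (hS.trans hHL)).trans (normalizer_le_normalizer_pPrimeCoreOf 2 L)
  obtain ⟨n, ⟨hn, hn'⟩, h2⟩ := exists_conj_into
    ((CL.Grp.isSylowIn_sup_of_coprime hAp hW hAW).of_le (le_inf le_sup_left hAV) inf_le_left) (isPGroup_cj hAp d) (by
      rintro _ ⟨_, ⟨a, rfl⟩, rfl⟩
      refine ⟨?_, (mem_normalizer_iff.1 (norm_le_norm_cent _ dN) _).1 (hAV ⟨a, rfl⟩)⟩
      obtain ⟨w, hw, k⟩ := hU a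
      have e : (MulAut.conj d).toMonoidHom ((φ.comp ι) a) =
          d * iv φ w * d⁻¹ * (⁅iv φ (w * a), d⁆⁻¹ * iv φ (w * a)) := by
        have e : (φ.comp ι) a = iv φ w * iv φ (w * a) := by
          rw [← map_mul, ← map_mul, ← mul_assoc, V_sq, one_mul]; rfl
        rw [e, commutatorElement_def]
        simp [mul_assoc]
      rw [e]
      obtain ⟨w', -, e'⟩ := Even.conj_mem dN (⟨w, hw, rfl⟩ : iv φ w ∈ sv φ vV)
      exact mul_mem (mem_sup_left ⟨w', e'⟩) (mul_mem (mem_sup_right (inv_mem (k.2 d dL))) (mem_sup_left ⟨_, rfl⟩)))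
  obtain ⟨σ, hσ, hg⟩ := F.la.ex (g := n * d) fun a => by
    obtain ⟨b, e⟩ := h2 _ (conj_mem_cj d ⟨a, rfl⟩)
    exact ⟨ι b, Eq.trans (by simp [mul_assoc]) e.symm⟩
  have hfix : ∀ u, iv φ u ∈ cpc 2 L → σ u = u := fun u hu => by
    have k1 : L ≤ cmodSub (zpowers (iv φ u)) (pPrimeCoreOf 2 L) := le_cmodSub_iff.2
      ⟨le_normalizer_pPrimeCoreOf 2 L, by rw [commutator_comm]; exact le_cpc_iff.1 (zpowers_le.2 hu)⟩
    have k2 : (φ.comp ι).range ≤ cmodSub (zpowers (iv φ u)) (pPrimeCoreOf 2 L) := le_cmodSub_iff.2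
      ⟨hAW, (commutator_eq_bot_iff'.2 (zpowers_le.2 (by rintro _ ⟨a, rfl⟩; exact iv_comm a u))).le.trans bot_le⟩
    have k3 := (mul_mem (sup_le k2 ((pPrimeCoreOf_le 2 L).trans k1) hn) (k1 dL)).2 _ (mem_zpowers _)
    rw [commutatorElement_def, show n * d * iv φ u * (n * d)⁻¹ = iv φ (σ u) from hg u] at k3
    have k4 := (inf_eq_bot_of_isPGroup_of_coprime hAp hW).le (mem_inf.2 ⟨mul_mem ⟨σ u, rfl⟩ (inv_mem ⟨u, rfl⟩), k3⟩)
    exact hj (mul_inv_eq_one.1 (mem_bot.1 k4))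
  have hσV : ∀ w ∈ vV, σ w ∈ vV := fun w hw => by
    obtain ⟨w', hw', e⟩ := Even.conj_mem (mul_mem (centralizer_le_normalizer _ hn') dN) (⟨w, hw, rfl⟩ : iv φ w ∈ sv φ vV)
    exact hj (e.trans (hg w)) ▸ hw'
  have hρ : σ = rho1 := by
    refine eq_rho ?_ (fun a => ?_) (hj ((Eq.symm (hg tt)).trans ?_))
    · cases c
      · exact absurd rfl hc
      · exact (F.opt.sp rfl ▸ hσ : σ ∈ XL).1
      · exact F.opt.om rfl ▸ hσ
    · obtain ⟨w, hw, k⟩ := hU a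
      have e : a * σ a = w * σ w * (w * a * σ (w * a)) := by
        rw [map_mul, V_comm w (σ w), mul_assoc, ← mul_assoc w, ← mul_assoc w, V_sq, one_mul, ← mul_assoc a,
          V_comm a (σ w), mul_assoc (σ w) a, ← mul_assoc (σ w) (σ w), V_sq, one_mul]
      rw [e, hfix _ k, V_sq, mul_one]
      exact mul_mem hw (hσV w hw)
    · change n * d * iv φ tt * (n * d)⁻¹ = iv φ (vv 32)
      rw [← conj_eq_of_mem hn' m32, ← d1]
      group
  subst hρ
  cases c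
  · exact absurd rfl hc
  · exact absurd (F.opt.ty _ hσ) (by decide +kernel)
  refine .inr ⟨rfl, L, hL.1.le, hL.1.quasi.perfect, le_norm_sup hHL hHO, hVL, fun N h1 h2 h3 => ?_,
    (le_cpc_iff.1 ?_).trans hL.1.core_le⟩
  · have h4 := le_norm_inf h3 (le_normalizer (H := L))
    rcases hL.1.quasi.normal (N ⊓ L) inf_le_right h4 with h5 | h5
    · exact .inr (le_antisymm h2 (sup_le (inf_eq_right.1 h5) h1))
    · have h6 := hT1.inf_of_normalized inf_le_right h4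
      rw [le_bot_iff.1 ((inf_le_inf_left _ (le_cpc_iff.2 h5)).trans hb.le)] at h6
      have h7 : N ⊓ L ≤ Oc (iv φ yy) := (le_pPrimeCoreOf inf_le_right h4 (by
        have := h6.not_dvd
        rw [relIndex_bot_left] at this
        exact ((Nat.Prime.coprime_iff_not_dvd Nat.prime_two).2 this).symm)).trans hL.1.core_le
      refine .inl (le_antisymm (fun x hx => ?_) h1)
      obtain ⟨l, hl, o, ho, rfl⟩ := (mem_sup_nr (hL.1.le.trans hHO)).1 (h2 hx)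
      exact mul_mem (h7 (mem_inf.2 ⟨(mul_mem_cancel_right (h1 ho)).1 hx, hl⟩)) ho
  · rintro _ ⟨a, ha, rfl⟩
    obtain ⟨w, hw, k⟩ := hU a
    have := (by decide +kernel : ∀ a ∈ ZF {4, 5, 6}, ∀ w ∈ vV, rho1 (w * a) = w * a → w = 1) a ha w hw (hfix _ k)
    rwa [this, one_mul] at k

end CL.SO
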