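/-
Project SO, `q = 3`: the strengthened form `Q3AThm'`.
-/
import Cfsg.Agent.SO.Def3
import Cfsg.Agent.SO.Q3a

set_option autoImplicit false

open Cfsg Subgroup CL.Grp CL.M12c CL.PcL CL.DW CL.Spor SemidirectProduct CL.Cls
open CL.YA (Sec WC AG Loc N2 xtr)
open CL.OR (HomOn img Om)
open CL.Cls.Fr (sQ fe prm)
open Equiv (Perm swap)

namespace CL.SO

universe u

open Q3a in
theorem q3AThm' : Q3AThm'.{u} := by
  intro G _ _ φ hf C H1 H2 o ψ P
  have c0 : Cx φ ψ := ⟨hf, C, H1, H2, o, P⟩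
  obtain ⟨k, K⟩ := c0.exists_KK
  obtain ⟨ν, hν, him, hv⟩ := c0.exists_nu K
  obtain ⟨e0, he, hk⟩ := c0.exists_e0 K
  have c := c0.conj he
  have hd : ∀ a, ν (dg F3 a) = iv φ a := fun a => by simpa [prm_one, K.one] using hv a 1 (one_mem _)
  have hp : ∀ s ∈ alternatingGroup (Fin 7), ν (prm F3 s) = k s := fun s hs => by
    simpa [dg_one, iv_one] using hv 1 s hs
  refine ⟨ν, _, ⟨hν, c.P.hom, fun h hh => ?_, fun a ha h hh => hd a ▸ c.ψ_comm hh ha, ?_, ?_, fun g hg => ?_⟩,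
    him, c.P.im, hd, fun g hg => c.cenA fun a => (hg a).symm⟩
  · obtain ⟨a, ha, s, hs, hs', rfl⟩ := (H1.mon _ _).1 hh
    rw [hv a s hs, c.P.hom.mul (H1.dg_mem _ a ha) (H1.prm_mem _ s hs hs'), c.P.dg a ha, hk s ⟨hs, hs'⟩]
  · rw [hd, hp _ (Perm.mem_alternatingGroup.2 (by decide))]
    exact c.comm_w K hk (Perm.mem_alternatingGroup.2 (by decide)) (by decide) (by decide +kernel) (by decide +kernel)
  · rw [hd, hp _ (Perm.mem_alternatingGroup.2 (by decide))]
    exact c.comm_w K hk (Perm.mem_alternatingGroup.2 (by decide)) (by decide) (by decide +kernel) (by decide +kernel)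
  · have hm : ∀ a, ∀ s ∈ alternatingGroup (Fin 7), Commute g (iv φ a * k s) := fun a s hs => hv a s hs ▸ hg _
      ((H1.mon _ _).2 ⟨a, fun p hp => (hp (Finset.mem_univ p)).elim, s, hs, Finset.subset_univ _, rfl⟩)
    obtain ⟨a, rfl⟩ := c.cenA (x := g) fun a => by simpa [K.one] using (hm a 1 (one_mem _)).symm
    have hr : finRotate 7 ∈ alternatingGroup (Fin 7) := Perm.mem_alternatingGroup.2 (by decide +kernel)
    have h1 := hm 1 _ hr
    rw [iv_one, one_mul, Commute, SemiconjBy, act_pv C (K.act _ hr), mul_left_inj] at h1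
    rw [(by decide +kernel : ∀ a, (∀ i, bt a (finRotate 7 i) = bt a i) → a = 1) a fun i => by
      conv_lhs => rw [c.iv_inj h1, bt_pv], iv_one]

end CL.SO
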